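import Cfsg.Agent.Lib.U43.Mod
import Cfsg.Agent.Lib.Linear.AltSix

/-! The double cover of `A₈`. -/

set_option autoImplicit false
set_option maxRecDepth 100000

namespace Cfsg.Lib.McT

open Cfsg.Lib.FO Subgroup Cfsg.Lib.Golay Cfsg.Lib.U43 Cfsg.Lib.Psp43 Cfsg.Lib.Linear
open Cfsg.Lib.Comp (Rels ev)

universe v

abbrev A8 := alternatingGroup (Fin 8)
abbrev I8 := {i : Fin 8 // i ≠ 0 ∧ i ≠ 1}
theorem h01 : (0 : Fin 8) ≠ 1 := by decide
abbrev cc (i : I8) : A8 := altCyc h01 i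
def i8 (a : Fin 6) : I8 := ⟨a.succ.succ, by revert a; decide⟩

abbrev gC {G : Type*} [Group G] (z : G) (X : I8 → G) : ℕ → G := nt 1 [1, z, X (i8 0), (X (i8 0))⁻¹, X (i8 1), (X (i8 1))⁻¹,
  X (i8 2), (X (i8 2))⁻¹, X (i8 3), (X (i8 3))⁻¹, X (i8 4), (X (i8 4))⁻¹, X (i8 5), (X (i8 5))⁻¹]

def W : List (List ℕ) := [[], [1], [7, 12, 8, 11, 8, 6, 2, 5, 2], [8, 13, 7, 10, 8, 6, 5, 3], [7, 13, 4, 11, 3, 8, 4, 2],
  [10, 13, 10, 6, 9, 6, 5, 3], [6, 12, 4, 11, 3, 8, 4, 2], [8, 13, 7, 10, 8, 6, 2, 5, 2], [7, 12, 9, 3, 7], [], [], [],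
  [6, 13, 8, 2, 6], [], [13, 10, 6, 9]]

def gs8 : List ℕ := [nat_lit 0x706050403020100, nat_lit 0x706050403020100, nat_lit 0x706050403000201, nat_lit 0x706050403010002,
  nat_lit 0x706050400020301, nat_lit 0x706050401020003, nat_lit 0x706050003020401, nat_lit 0x706050103020004,
  nat_lit 0x706000403020501, nat_lit 0x706010403020005, nat_lit 0x700050403020601, nat_lit 0x701050403020006,
  nat_lit 0x6050403020701, nat_lit 0x106050403020007]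

noncomputable abbrev c8 : Coding (Fin 8) := finCoding 8 (by norm_num)

theorem ev_wd {G : Type*} [Group G] (γ : ℕ → G) (w : List ℕ) : (wd w).ev γ [] = ev γ w := by
  induction w with
  | nil => rfl
  | cons i w ih => exact (congrArg (γ i * ·) ih).trans (Comp.ev_cons ..).symm

theorem i8_surj : ∀ i : I8, ∃ a, i = i8 a := by decide

theorem chkA : chk 8 32749 15 317 (mapL (Tm.B 8 gs8 []) [.c 2, wd [13, 10, 9, 6, 5, 2], wd (nt [] W 2), wd (nt [] W 3),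
    wd (nt [] W 5), wd (nt [] W 6), wd (nt [] W 7), wd (nt [] W 14), .c 4, .c 6, .c 8, .c 10, .c 12])
    [[.c 0, .c 1], [.c 3, .c 4, .c 5, .c 6, .c 7]] (.and (.mem (.c 8) 0) (.and (.mem (.c 9) 0) (.and (.mem (.c 10) 0)
      (.and (.mem (.c 11) 0) (.and (.mem (.c 12) 0) (.all 0 (.imp (.cm (.v 0) (.c 2)) (.mem (.v 0) 1)))))))) = true := by
  decide +kernel

theorem factA (k : A8) (h : k * ev (gC 1 cc) (nt [] W 2) = ev (gC 1 cc) (nt [] W 2) * k) :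
    k ∈ gen ([3, 5, 6, 7, 14].map fun i => ev (gC 1 cc) (nt [] W i)) := by
  have hC : ∀ i, R c8 (MonoidHom.id A8) (getL gs8 (idN 8) i) (gC 1 cc i) := fun i => by
    by_cases hi : i < 14
    · obtain ⟨a, b⟩ := c8.dec_eq_of (σ := (gC 1 cc i : A8)) ((by decide +kernel : ∀ i < 14, getL gs8 (idN 8) i < 2 ^ (8 * 8)) i hi)
        ((by decide +kernel : ∀ i < 14, ∀ a : Fin 8, app (getL gs8 (idN 8) i) a.val = ((gC 1 cc i : A8).1 a).val) i hi)
      exact ⟨⟨a, b ▸ (gC 1 cc i).2⟩, Subtype.ext b⟩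
    · rw [getL_eq_nt, nt_ge _ _ _ (by simp [gs8]; omega), show gC 1 cc i = 1 from nt_ge _ _ _ (by simp; omega)]
      exact R.one
  obtain ⟨h1, h2, h3, h4, h5, h6⟩ := chk_tm Function.injective_id hC _ chkA
  simp only [List.map, ← ev_wd] at h ⊢
  refine h6 k ((closure_le _).2 ?_ ((closure_altCyc h01).ge (mem_top k))) h
  rintro _ ⟨i, rfl⟩
  obtain ⟨a, rfl⟩ := i8_surj i
  fin_cases a
  exacts [mem_gen (.head _), h1, h2, h3, h4, h5]

theorem conjA : ∀ a b : Fin 6, a ≠ b → ∃ w ∈ [[], [1, 1, 2], [1, 1, 3], [1, 1, 4], [1, 1, 5], [1], [0, 1, 2], [0, 1, 3], [0, 1, 4],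
    [0, 1, 5], [1, 0, 2], [0, 2, 2], [1, 0, 3, 2], [1, 0, 4, 2], [1, 0, 5, 2], [1, 0, 3], [0, 3, 3], [0, 1, 3, 2], [1, 0, 4, 3],
    [1, 0, 5, 3], [1, 0, 4], [0, 4, 4], [0, 1, 4, 2], [0, 1, 4, 3], [1, 0, 5, 4], [1, 0, 5], [0, 5, 5], [0, 1, 5, 2], [0, 1, 5, 3],
    [0, 1, 5, 4]], (List.map (fun i => cc (i8 i)) w).prod * (cc (i8 0) * cc (i8 1)) =
      cc (i8 a) * cc (i8 b) * (List.map (fun i => cc (i8 i)) w).prod := by decide +kernel

theorem carm {H : Type v} [Group H] (h : IsNonsplitDoubleCover H A8) : ∃ (π : H →* A8) (z : H) (X : I8 → H),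
    z ≠ 1 ∧ z * z = 1 ∧ (∀ g, g * z = z * g) ∧ (∀ g, π g = 1 ↔ g = 1 ∨ g = z) ∧ (∀ g ∈ center H, π g = 1) ∧ (∀ i, π (X i) = cc i) ∧
    (∀ i, X i ^ 3 = 1) ∧ (∀ a b, a ≠ b → (X (i8 a) * X (i8 b)) ^ 2 = z) ∧ (∀ N : Subgroup H, N.Normal → z ∉ N → N = ⊥) ∧
    Nat.card H = 40320 := by
  obtain ⟨h2, ⟨e⟩, hL⟩ := h
  let π : H →* A8 := e.toMonoidHom.comp (QuotientGroup.mk' _)
  have hs : Function.Surjective π := e.surjective.comp (QuotientGroup.mk'_surjective _)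
  have hk : ∀ g, π g = 1 ↔ g ∈ center H := fun g => by simp [π]
  have hz : ∀ z ∈ center H, z ^ 2 = 1 := fun z hz => congrArg Subtype.val (h2 ▸ pow_card_eq_one' (x := (⟨z, hz⟩ : center H)))
  obtain ⟨⟨z, zc⟩, z1, zu⟩ := (Nat.card_eq_two_iff' (1 : center H)).1 h2
  have hc : ∀ g, π g = 1 ↔ g = 1 ∨ g = z := fun g => ⟨fun hg => or_iff_not_imp_left.2 fun g1 =>
    congrArg Subtype.val (zu ⟨g, (hk g).1 hg⟩ fun e => g1 (congrArg Subtype.val e)), by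
      rintro (rfl | rfl); exacts [map_one π, (hk _).2 zc]⟩
  have cp : ∀ L : Subgroup H, z ∉ L → L.map π ≠ ⊤ := fun L zL eL => by
    refine hL L (isComplement'_of_disjoint_and_mul_eq_univ (disjoint_def.2 fun {g} h1 h2 =>
      ((hc g).1 ((hk g).2 h1)).resolve_right fun e => zL (e ▸ h2)) (Set.eq_univ_of_forall fun g => ?_))
    obtain ⟨k, hk', e⟩ := eL.ge (mem_top (π g))
    exact ⟨g * k⁻¹, (hk _).1 (by simp [e]), k, hk', by simp⟩
  choose Y hY using fun i => hs (cc i)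
  have hX : ∀ i, π (Y i ^ 4) = cc i := fun i => by
    rw [map_pow, hY, pow_succ, (carm_altCyc h01).cube i trivial, one_mul]
  have h3 : ∀ i, (Y i ^ 4) ^ 3 = 1 := fun i => by
    rw [← pow_mul, show 4 * 3 = 3 * 2 * 2 from rfl, pow_mul, pow_mul,
      hz (Y i ^ 3) ((hk _).1 (by rw [map_pow, hY, (carm_altCyc h01).cube i trivial])), one_pow]
  have h4 : ∀ a b, a ≠ b → ((Y (i8 a) ^ 4 * Y (i8 b) ^ 4) ^ 2 = 1 ↔ (Y (i8 0) ^ 4 * Y (i8 1) ^ 4) ^ 2 = 1) := fun a b hab => by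
    obtain ⟨w, -, ht⟩ := conjA a b hab
    obtain ⟨t, ht'⟩ := hs (List.map (fun i => cc (i8 i)) w).prod
    have h5 : (t * (Y (i8 0) ^ 4 * Y (i8 1) ^ 4) * t⁻¹)⁻¹ * (Y (i8 a) ^ 4 * Y (i8 b) ^ 4) ∈ center H := (hk _).1 (by
      rw [map_mul, map_inv, map_mul, map_mul, map_inv, map_mul, map_mul, hX, hX, hX, hX, ht', ht]; simp)
    rw [← mul_inv_cancel_left (t * (Y (i8 0) ^ 4 * Y (i8 1) ^ 4) * t⁻¹) (Y (i8 a) ^ 4 * Y (i8 b) ^ 4),
      Commute.mul_pow (mem_center_iff.1 h5 _), hz _ h5, conj_pow, mul_one, conj_eq_one_iff]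
  have z1' : z ≠ 1 := fun e => z1 (Subtype.ext e)
  refine ⟨π, z, fun i => Y i ^ 4, z1', by rw [← pow_two, hz z zc], fun g => mem_center_iff.1 zc g, hc, fun g => (hk g).2, hX, h3,
    fun a b hab => ((hc _).1 ?_).resolve_left fun e => ?_, fun N hN zN => ?_, ?_⟩
  · rw [map_pow, map_mul, hX, hX]
    exact (carm_altCyc h01).sq _ trivial _ trivial fun e => hab ((by decide : ∀ a b, i8 a = i8 b → a = b) a b e)
  · refine cp (closure (Set.range fun i => Y i ^ 4)) (fun hg => z1' (mem_of_carm h01 π hX ⊥ h3 (fun i j hij => ?_) hg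
      ((hk z).2 zc))) (by rw [MonoidHom.map_closure, ← Set.range_comp, show π ∘ _ = cc from funext hX, closure_altCyc])
    obtain ⟨c, rfl⟩ := i8_surj i
    obtain ⟨d, rfl⟩ := i8_surj j
    exact (h4 c d fun e => hij (e ▸ rfl)).2 ((h4 a b hab).1 e)
  · have := alternatingGroup.isSimpleGroup (α := Fin 8) (by simp)
    refine eq_bot_iff.2 fun g hg => ((hc g).1 ?_).resolve_right fun e => zN (e ▸ hg)
    exact (((hN.map π hs).eq_bot_or_eq_top).resolve_right (cp N zN)).le (mem_map_of_mem π hg)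
  · rw [card_eq_card_quotient_mul_card_subgroup (center H), h2, Nat.card_congr e.toEquiv, nat_card_alternatingGroup]
    simp [Nat.factorial]

end Cfsg.Lib.McT
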