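import Cfsg.Agent.Lib.U43.Top
import Cfsg.Agent.Lib.Comp.McN.Main

/-! Facts on the normaliser of a four-group in `2.A₈`. -/

set_option autoImplicit false
set_option maxRecDepth 100000

namespace Cfsg.Lib.McT

open Cfsg.Lib.FO Subgroup Cfsg.Lib.Golay Cfsg.Lib.U43 Cfsg.Lib.Psp43
open Cfsg.Lib.Comp (Rels ev)

universe v

variable {G : Type v} [Group G]

def gsN : List ℕ := [nat_lit 0xf0e0d0c0b0a09080706050403020100,
  nat_lit 0xa080001090f0b0e0503070206040c0d,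
  nat_lit 0x504090600070d020a0c0f0e0108030b,
  nat_lit 0xd0c0f0e070005010b0409060203080a,
  nat_lit 0xe0f0c0d0308060a020904050b070001,
  nat_lit 0xf020006090a0b04070c0508010e030d,
  nat_lit 0xf080903000a0d0e070105020c04060b,
  nat_lit 0xa060d02090f0b03070e0501080c0400,
  nat_lit 0xf06080b040a02030700050c0d01090e,
  nat_lit 0xf0003040c0a010d070e050b08090206]

/-- letters `z u e t f w s x X` -/
abbrev gN (z u e t f w s x : G) : ℕ → G := nt 1 [1, z, u, e, t, f, w, s, x, x⁻¹]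

theorem chkN : chk 16 509 9 8 gsN [Comp.McN.L.map .c, [.c 2, .c 3, .c 4, .c 5, .c 6, .c 7], [.c 2, .c 3, .c 4, .c 5, .c 6]]
    (.and (.card 0 384) (.all 0 (ncl (wd [1])))) = true := by decide +kernel

structure FN (z u e t f w s x : G) : Prop where
  xz : x * z * x⁻¹ = z
  xu : x * u * x⁻¹ = u
  xe : x * e * x⁻¹ * z = t
  xt : x * t * x⁻¹ = t * e * u
  xf : x * f * x⁻¹ = w
  xw : x * w * x⁻¹ = w * f
  x3 : x * x * x = 1
  sx : s * x * s⁻¹ = x⁻¹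
  teuu : t * e * u * u = t * e
  wfw : w * f * w = f
  ew : e * w * (e * w) = u
  zN : z ∈ gen [e, f, w, s, x]
  hN : ∀ k ∈ gen [e, f, w, s, x], k * u = u * k → k ∈ gen [e, f, x]
  hE : ∀ k ∈ gen [e, f, x], k * z = z * k ∧ k * u = u * k ∧ k * x * k⁻¹ ≠ x⁻¹ ∧ (k * e = e * k → k ∈ gen [z, u, e, t, f, w] ∧ (k * t = t * k →
    k ∈ gen [z, u, e, t])) ∧ (k * f = f * k → k * w = w * k → k ∈ gen [z, u, f, w])
  fa : ∀ b ∈ gen [e, f, x], b * b * b = 1 → ∀ a ∈ gen [e, f, x], a * a = 1 → b * (b * a * b⁻¹ * u) * b⁻¹ = (b * a * b⁻¹ * u) * a * (u * z) → ∀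
    c ∈ gen [e, f, x], c * c = 1 → a * c * (a * c) = u → b * (b * c * b⁻¹) * b⁻¹ = (b * c * b⁻¹) * c → a * (b * c * b⁻¹) * (a * (b * c *
    b⁻¹)) = u * z → ∃ k ∈ gen [e, f, x], (k * b * k⁻¹) = x⁻¹ ∨ (k * b * k⁻¹) = x ∧ k * a * k⁻¹ = t ∧ k * c * k⁻¹ = w * f

theorem FN_chk0 : chk 16 509 9 8 gsN [[(.c 3), (.c 5), (.c 6), (.c 7), (.c 8)], [(.c 3), (.c 5), (.c 8)], [(.c 1), (.c 2), (.c 3), (.c 4),
    (.c 5), (.c 6)], [(.c 1), (.c 2), (.c 3), (.c 4)], [(.c 1), (.c 2), (.c 5), (.c 6)]] (.and (.eq (.mul (.mul (.c 8) (.c 1)) (.c 9)) (.c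
    1)) (.and (.eq (.mul (.mul (.c 8) (.c 2)) (.c 9)) (.c 2)) (.and (.eq (.mul (.mul (.mul (.c 8) (.c 3)) (.c 9)) (.c 1)) (.c 4)) (.and (.eq
    (.mul (.mul (.c 8) (.c 4)) (.c 9)) (.mul (.mul (.c 4) (.c 3)) (.c 2))) (.and (.eq (.mul (.mul (.c 8) (.c 5)) (.c 9)) (.c 6)) (.and (.eq
    (.mul (.mul (.c 8) (.c 6)) (.c 9)) (.mul (.c 6) (.c 5))) (.and (.eq (.mul (.mul (.c 8) (.c 8)) (.c 8)) .one) (.and (.eq (.mul (.mul (.c
    7) (.c 8)) (.inv (.c 7))) (.c 9)) (.and (.eq (.mul (.mul (.mul (.c 4) (.c 3)) (.c 2)) (.c 2)) (.mul (.c 4) (.c 3))) (.and (.eq (.mul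
    (.mul (.c 6) (.c 5)) (.c 6)) (.c 5)) (.and (.eq (.mul (.mul (.c 3) (.c 6)) (.mul (.c 3) (.c 6))) (.c 2)) (.and (.mem (.c 1) 0) (.and
    (.all 0 (.imp (.eq (.mul (.v 0) (.c 2)) (.mul (.c 2) (.v 0))) (.mem (.v 0) 1))) (.and (.all 1 (.and (.eq (.mul (.v 0) (.c 1)) (.mul (.c
    1) (.v 0))) (.and (.eq (.mul (.v 0) (.c 2)) (.mul (.c 2) (.v 0))) (.and (.imp (.eq (.mul (.mul (.v 0) (.c 8)) (.inv (.v 0))) (.c 9)) .ff)
    (.and (.imp (.eq (.mul (.v 0) (.c 3)) (.mul (.c 3) (.v 0))) (.and (.mem (.v 0) 2) (.imp (.eq (.mul (.v 0) (.c 4)) (.mul (.c 4) (.v 0)))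
    (.mem (.v 0) 3)))) (.imp (.eq (.mul (.v 0) (.c 5)) (.mul (.c 5) (.v 0))) (.imp (.eq (.mul (.v 0) (.c 6)) (.mul (.c 6) (.v 0))) (.mem (.v
    0) 4)))))))) (.all 1 (.imp (.eq (.mul (.mul (.v 0) (.v 0)) (.v 0)) .one) (.all 1 (.imp (.eq (.mul (.v 0) (.v 0)) .one) (.lt (.mul (.mul
    (.mul (.v 1) (.v 0)) (.inv (.v 1))) (.c 2)) (.imp (.eq (.mul (.mul (.v 2) (.v 0)) (.inv (.v 2))) (.mul (.mul (.v 0) (.v 1)) (.mul (.c 2)
    (.c 1)))) (.all 1 (.imp (.eq (.mul (.v 0) (.v 0)) .one) (.imp (.eq (.mul (.mul (.v 2) (.v 0)) (.mul (.v 2) (.v 0))) (.c 2)) (.lt (.mul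
    (.mul (.v 3) (.v 0)) (.inv (.v 3))) (.imp (.eq (.mul (.mul (.v 4) (.v 0)) (.inv (.v 4))) (.mul (.v 0) (.v 1))) (.imp (.eq (.mul (.mul (.v
    3) (.v 0)) (.mul (.v 3) (.v 0))) (.mul (.c 2) (.c 1))) (.ex 1 (.lt (.mul (.mul (.v 0) (.v 5)) (.inv (.v 0))) (.or (.eq (.v 0) (.c 9))
    (.and (.eq (.v 0) (.c 8)) (.and (.eq (.mul (.mul (.v 1) (.v 5)) (.inv (.v 1))) (.c 4)) (.eq (.mul (.mul (.v 1) (.v 3)) (.inv (.v 1)))
    (.mul (.c 6) (.c 5)))))))))))))))))))))))))))))))))) = true := by decide +kernel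

theorem FN_of {z u e t f w s x : G} {H : Subgroup (Equiv.Perm (Fin 16))} {φ : H →* G} (hφ : Function.Injective φ)
    (hC : ∀ i, R c16 φ (getL gsN (idN 16) i) (gN z u e t f w s x i)) : FN z u e t f w s x := by
  obtain ⟨h_xz, h_xu, h_xe, h_xt, h_xf, h_xw, h_x3, h_sx, h_teuu, h_wfw, h_ew, h_zN, h_hN, h_hE, h_fa⟩ := chk_sound' hφ hC FN_chk0
  exact ⟨h_xz, h_xu, h_xe, h_xt, h_xf, h_xw, h_x3, h_sx, h_teuu, h_wfw, h_ew, h_zN, h_hN, h_hE, h_fa⟩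

theorem fn_of {z u e t f w s x : G} (h : Rels (gN z u e t f w s x) Comp.McN.R) (z1 : z ≠ 1) : FN z u e t f w s x := by
  obtain ⟨φ, h1, h2⟩ := emb_inj (c := c16) (gs := gsN) (by decide +kernel : ∀ g ∈ gsN, isPerm 16 g = true) Comp.McN.ord
    (by decide +kernel) (fun k hk => by simp [Comp.McN.L] at hk ⊢; omega) [1] chkN
    (ivok (l := [z, u, e, t, f, w, s, x, x⁻¹]) (by decide +kernel : ∀ x < 64, Comp.McN.iv x < 64 ∧ (9 < x → 9 < Comp.McN.iv x)) fun k hk => by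
      simp only [List.length_cons, List.length_nil] at hk
      have q := fun k => sq_of h (k := k)
      interval_cases k
      exacts [inv_one.symm, q 1 (by decide +kernel), q 2 (by decide +kernel), q 3 (by decide +kernel), q 4 (by decide +kernel),
        q 5 (by decide +kernel), q 6 (by decide +kernel), q 7 (by decide +kernel), rfl, (inv_inv _).symm]) h
    (fun k hk => (em (k = 0)).elim (· ▸ rfl) fun h0 => nt_ge _ _ _ (by simp [Comp.McN.L] at hk ⊢; omega))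
    ((Comp.ev_single _ 1).trans_ne z1)
  exact FN_of h1 h2

end Cfsg.Lib.McT
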