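import Cfsg.Agent.Lib.McT.A8
import Cfsg.Agent.Lib.McT.FN
import Cfsg.Agent.Lib.Comp.McC.Main
import Cfsg.Agent.Lib.Comp.McX.ResL
import Cfsg.Agent.Lib.Comp.Subst3
import Cfsg.Agent.Lib.Comp.Exact

/-! Generators of an involution centraliser `2.A₈`. -/

set_option autoImplicit false
set_option maxRecDepth 100000

namespace Cfsg.Lib.McT

open Cfsg.Lib.FO Subgroup Cfsg.Lib.Golay Cfsg.Lib.U43 Cfsg.Lib.Psp43 Cfsg.Lib.Linear
open Cfsg.Lib.Comp (IvOK Rels ev cl gp sv xpd ev_xpd mem_cl cl_le ev_single hom_of_ord eq_of_eqB eqB)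
open Cfsg.Lib.Comp.McX (nets nets_ok nets_iv)

universe v

variable {G : Type v} [Group G]

/-- letters `z u e t f w s y Y m M p P x X` -/
abbrev gX (z u e t f w s y m p x : G) : ℕ → G := nt 1 [1, z, u, e, t, f, w, s, y, y⁻¹, m, m⁻¹, p, p⁻¹, x, x⁻¹]

def LH : List ℕ := [1, 2, 3, 4, 5, 6, 7, 8, 9, 12, 13, 14, 15]

def V : List (List ℕ) := [[], [1], [12, 9], [8, 13], [13, 5, 8, 2], [2, 9, 5, 12], [14, 12, 8, 15], [14, 9, 13, 15],
  [4, 15, 13, 8, 14, 4], [4, 15, 9, 12, 14, 4], [15, 7, 13, 9, 15, 7], [7, 14, 8, 12, 7, 14], [14, 13, 9, 14, 7, 2],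
  [2, 7, 15, 8, 12, 15]]

structure MT (z u e t f w s y p x : G) : Prop where
  z1 : z ≠ 1
  emb : ∃ K : Subgroup (G × Equiv.Perm ℕ), (∀ m, ∀ i ∈ LH, (gX z u e t f w s y m p x i, gp nets i) ∈ K) ∧ ∀ g, (g, 1) ∈ K → g = 1
  card : Nat.card (centralizer {z}) = 40320
  odd : ∀ g ∈ oddCore G, g * z = z * g → g = 1
  hg : ∀ m g, g * z = z * g → g ∈ cl (gX z u e t f w s y m p x) LH
  cV : ∀ g, g * z = z * g → g * u = u * g → g ∈ gen [z, e, f, w, s, x]

theorem relC {z : G} {X : I8 → G} (z2 : z * z = 1) (zc : ∀ g, g * z = z * g) (h3 : ∀ i, X i ^ 3 = 1)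
    (h2 : ∀ a b, a ≠ b → (X (i8 a) * X (i8 b)) ^ 2 = z) : IvOK (gC z X) Comp.McC.iv ∧ Rels (gC z X) Comp.McC.R := by
  refine ⟨ivok (by decide +kernel : ∀ x < 64, Comp.McC.iv x < 64 ∧ (13 < x → 13 < Comp.McC.iv x)) fun k hk => ?_, fun r hr => ?_⟩
  · simp only [List.length_cons, List.length_nil] at hk
    interval_cases k
    exacts [inv_one.symm, eq_inv_of_mul_eq_one_left z2, rfl, (inv_inv _).symm, rfl, (inv_inv _).symm, rfl, (inv_inv _).symm,
      rfl, (inv_inv _).symm, rfl, (inv_inv _).symm, rfl, (inv_inv _).symm]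
  have e : ∀ a : Fin 6, gC z X (2 * a + 2) = X (i8 a) ∧ gC z X (2 * a + 3) = (X (i8 a))⁻¹ := fun a => by
    fin_cases a <;> exact ⟨rfl, rfl⟩
  have e1 : gC z X 1 = z := rfl
  rcases (by decide +kernel : ∀ r ∈ Comp.McC.R, r = ([1], 1) ∨ ∃ a : Fin 6, r = ([2 * a.1 + 2], 2) ∨ r = ([1, 2 * a.1 + 2, 1, 2 * a.1 + 3], 0) ∨
    r = ([2 * a.1 + 2, 2 * a.1 + 3], 0) ∨ ∃ b : Fin 6, a ≠ b ∧ r = ([2 * a.1 + 2, 2 * b.1 + 2, 2 * a.1 + 2, 2 * b.1 + 2, 1], 0)) r hr with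
    rfl | ⟨a, rfl | rfl | rfl | ⟨b, ab, rfl⟩⟩ <;> simp only [Comp.ev_cons, Comp.ev_nil, e, e1, mul_one]
  · rw [pow_two, z2]
  · exact h3 _
  · rw [← mul_assoc, ← zc, mul_assoc, ← mul_assoc z, z2]; simp
  · simp
  · rw [zero_add, pow_one, ← z2]; nth_rw 2 [← h2 a b ab]; simp only [pow_two, mul_assoc]

theorem cover [Finite G] {t : G} (ht : orderOf t = 2) (h : IsNonsplitDoubleCover (centralizer ({t} : Set G)) A8) :
    ∃ u e t' f w s y p x, MT t u e t' f w s y p x := by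
  obtain ⟨π, z, X, z1, z2, zc, hk, hc, hX, h3, h2, hN, cd⟩ := carm h
  have t1 : t ≠ 1 := fun e => by rw [e, orderOf_one] at ht; omega
  have ez : t = (z : G) := congrArg Subtype.val (((hk ⟨t, mem_centralizer_singleton_iff.2 rfl⟩).1 (hc _ (mem_center_iff.2 fun g =>
    Subtype.ext (mem_centralizer_singleton_iff.1 g.2)))).resolve_left fun e => t1 (congrArg Subtype.val e))
  obtain ⟨hi, hr⟩ := relC z2 zc h3 h2
  have lift : ∀ K : Subgroup (centralizer ({t} : Set G)), z ∈ K → ∀ g, π g ∈ K.map π → g ∈ K := fun K zK g ⟨k, hk', e⟩ => by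
    rcases (hk (k⁻¹ * g)).1 (by simp [e]) with e1 | e1
    exacts [inv_mul_eq_one.1 e1 ▸ hk', inv_mul_eq_iff_eq_mul.1 e1 ▸ mul_mem hk' zK]
  have top : cl (gC z X) Comp.McC.L = ⊤ := eq_top_iff.2 fun g _ => lift _ (mem_cl (x := 1) (by decide)) g
    ((closure_le _).2 (by
      rintro _ ⟨i, rfl⟩
      obtain ⟨a, rfl⟩ := i8_surj i
      refine ⟨_, ?_, hX _⟩
      fin_cases a
      exacts [mem_cl (x := 2) (by decide), mem_cl (x := 4) (by decide), mem_cl (x := 6) (by decide), mem_cl (x := 8) (by decide),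
        mem_cl (x := 10) (by decide), mem_cl (x := 12) (by decide)]) ((closure_altCyc h01).ge (mem_top _)))
  obtain ⟨f, hf⟩ := hom_of_ord Comp.McC.ord hi hr (Comp.SvOK.ok (V := V) (R := []) (R' := []) (by decide +kernel) nets_iv (Rels.nil _)).1
    (fun r hr => ev_xpd (gp nets) V r.1 ▸ eq_of_eqB (k := 9) (w := []) nets_ok (by norm_num)
      ((by decide +kernel : ∀ r ∈ Comp.McC.R, eqB 320 9 0 9 nets (xpd V r.1) r.2 [] = true) r hr)) (by rw [top, card_top, cd])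
  let F : centralizer ({t} : Set G) →* Equiv.Perm ℕ := f.comp ((MonoidHom.id _).codRestrict _ fun x => top ▸ mem_top x)
  have hF : ∀ w, (∀ x ∈ w, x ∈ Comp.McC.L) → F (ev (gC z X) w) = ev (gp nets) (xpd V w) := fun w hw =>
    (hf w hw).trans (ev_xpd ..).symm
  have Fz : F z = ev (gp nets) [1] := (congrArg F (ev_single (gC z X) 1).symm).trans (hF [1] (by decide))
  have inj : Function.Injective F := (MonoidHom.ker_eq_bot_iff F).1 (hN _ inferInstance fun e =>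
    Comp.ne_of_wap (u := [1]) (w := []) (p := 1) (Comp.tbA_pt nets_ok) (by decide +kernel) (Fz.symm.trans e))
  let a := fun i => ev (gC z X) (nt [] W i)
  have hW : ∀ i ∈ [2, 3, 4, 5, 6, 7, 8, 12, 14], F (a i) = gp nets i := fun i hi =>
    let k := (by decide +kernel : ∀ i ∈ [2, 3, 4, 5, 6, 7, 8, 12, 14], (∀ x ∈ nt [] W i, x ∈ Comp.McC.L) ∧
      eqB 320 9 0 9 nets (xpd V (nt [] W i)) 0 [i] = true) i hi
    (hF _ k.1).trans ((pow_one _).symm.trans ((eq_of_eqB nets_ok (by norm_num) k.2).trans (ev_single ..)))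
  let γ := gX z (a 2) (a 3) (a 4) (a 5) (a 6) (a 7) (a 8) 1 (a 12) (a 14)
  have iw : ∀ i ∈ [8, 12, 14], F (a i)⁻¹ = gp nets (i + 1) := fun i hi => by
    obtain ⟨k1, k2, k3⟩ := (by decide +kernel : ∀ i ∈ [8, 12, 14], i ∈ [2, 3, 4, 5, 6, 7, 8, 12, 14] ∧ i < 64 ∧ Comp.McX.iv i = i + 1) i hi
    rw [map_inv, hW i k1, ← (nets_iv.2 i k2).2, k3]
  have hH : ∀ i ∈ LH, F (γ i) = gp nets i := by
    simp only [LH, List.forall_mem_cons] at hW iw ⊢
    obtain ⟨a2, a3, a4, a5, a6, a7, a8, a12, a14, -⟩ := hW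
    exact ⟨Fz.trans (ev_single ..), a2, a3, a4, a5, a6, a7, a8, iw.1, a12, iw.2.1, a14, iw.2.2.1, fun _ h => nomatch h⟩
  have co : ∀ m, ∀ i ∈ LH, (γ i : G) = gX t (a 2) (a 3) (a 4) (a 5) (a 6) (a 7) (a 8) m (a 12) (a 14) i := fun m => by
    simp only [LH, List.forall_mem_cons]
    exact ⟨ez.symm, rfl, rfl, rfl, rfl, rfl, rfl, rfl, rfl, rfl, rfl, rfl, rfl, fun _ h => nomatch h⟩
  have mk : ∀ g, g * t = t * g → g ∈ centralizer ({t} : Set G) := fun g => mem_centralizer_singleton_iff.2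
  refine ⟨a 2, a 3, a 4, a 5, a 6, a 7, a 8, a 12, a 14, t1, ⟨((Subgroup.subtype _).prod F).range, fun m i hi =>
    ⟨γ i, Prod.ext (co m i hi) (hH i hi)⟩, fun g ⟨k, e⟩ => ?_⟩, cd, fun g hg e => ?_, fun m g e => ?_, fun g e1 e2 => ?_⟩
  · rw [← show (k : G) = g from congrArg Prod.fst e, inj ((show F k = 1 from congrArg Prod.snd e).trans (map_one F).symm), coe_one]
  · exact congrArg Subtype.val ((hN ((oddCore G).subgroupOf _) inferInstance fun hz => t1 (eq_one_of_odd (Core.odd_card_oddCore G)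
      (ez ▸ hz) (k := 1) (by rw [pow_one, ← ht, pow_orderOf_eq_one]))).le (show (⟨g, mk g e⟩ : centralizer {t}) ∈ _ from hg))
  · have : cl (gC z X) Comp.McC.L ≤ cl γ LH := cl_le.2 fun i hi => by
      obtain ⟨k1, k2⟩ := (by decide +kernel : ∀ i ∈ Comp.McC.L, (∀ x ∈ nt [] V i, x ∈ LH) ∧ xpd V [i] = nt [] V i) i hi
      rw [← ev_single (gC z X) i, inj ((hF [i] (by simpa using hi)).trans ((congrArg _ k2).trans ((Comp.ev_map γ F _).trans
        (Comp.ev_congr _ fun x hx => hH x (k1 x hx))).symm))]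
      exact Comp.ev_mem fun x hx => mem_cl (k1 x hx)
    exact mem_comap.1 ((show cl γ LH ≤ comap (Subgroup.subtype _) _ from cl_le.2 fun i hi => mem_comap.2 ((co m i hi).symm ▸ mem_cl hi :
      (γ i : G) ∈ cl (gX t (a 2) (a 3) (a 4) (a 5) (a 6) (a 7) (a 8) m (a 12) (a 14)) LH))
      (this (top.ge (mem_top ⟨g, mk g e⟩))))
  · have hY : ∀ i, π (X i)⁻¹ = (cc i)⁻¹ := fun i => by rw [map_inv, hX]
    have ec : ∀ i, π (gC z X i) = gC 1 cc i := fun i => by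
      by_cases hi : i < 14
      · interval_cases i
        exacts [map_one π, (hk z).2 (.inr rfl), hX _, hY _, hX _, hY _, hX _, hY _, hX _, hY _, hX _, hY _, hX _, hY _]
      · rw [show gC z X i = 1 from nt_ge _ _ _ (by simp; omega), show gC 1 cc i = 1 from nt_ge _ _ _ (by simp; omega), map_one]
    have ea : ∀ i, π (a i) = ev (gC 1 cc) (nt [] W i) := fun i => (Comp.ev_map _ π _).trans (Comp.ev_congr _ fun x _ => ec x)
    have k1 := factA (π ⟨g, mk g e1⟩) (by rw [← ea, ← map_mul, ← map_mul]; exact congrArg π (Subtype.ext e2))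
    have k2 := lift (gen [z, a 3, a 5, a 6, a 7, a 14]) (mem_gen (.head _)) _ (gen_le.2 (fun x hx => by
      obtain ⟨i, hi, rfl⟩ := List.mem_map.1 hx
      exact ⟨a i, mem_gen (.tail _ (List.mem_map_of_mem (f := a) hi)), ea i⟩) k1)
    refine mem_comap.1 ((show gen _ ≤ comap (Subgroup.subtype _) _ from gen_le.2 ?_) k2)
    simp only [List.forall_mem_cons, mem_comap]
    exact ⟨mem_gen (List.mem_cons.2 (.inl ez.symm)), mem_gen (by simp), mem_gen (by simp), mem_gen (by simp), mem_gen (by simp), mem_gen (by simp),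
      fun _ h => nomatch h⟩

end Cfsg.Lib.McT
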