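import Cfsg.Agent.Lib.McT.StP

/-! A standard subgroup `2.A₈`: local structure. -/

set_option autoImplicit false

namespace Cfsg.Lib.McT.St

open Equiv Equiv.Perm Subgroup

theorem T.conj4 {τ τ' : P8} (h : T 4 τ) (h' : T 4 τ') : ∃ c, sign c = 1 ∧ c * τ * c⁻¹ = τ' := by
  obtain ⟨c, a1, rfl⟩ := (show T 4 v0 by decide).conj_ev h (s := swap 0 1) (by simp) (by decide)
  obtain ⟨d, a2, rfl⟩ := (show T 4 v0 by decide).conj_ev h' (s := swap 0 1) (by simp) (by decide)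
  exact ⟨d * c⁻¹, by simp [a1, a2], by group⟩

variable {G : Type*} [Group G]

structure ST (z : G) (A : Subgroup G) (σ : G → P8) : Prop where
  z1 : z ≠ 1
  z2 : z * z = 1
  zA : z ∈ A
  cz : ∀ a ∈ A, Commute a z
  nm : ∀ n, Commute n z → ∀ a ∈ A, n * a * n⁻¹ ∈ A
  mul : ∀ m n, Commute m z → Commute n z → σ (m * n) = σ m * σ n
  ker : ∀ n, Commute n z → (σ n = 1 ↔ n ∈ centralizer (A : Set G))
  kA : ∀ a ∈ A, σ a = 1 → a = 1 ∨ a = z
  ev : ∀ a ∈ A, sign (σ a) = 1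
  sur : ∀ τ, sign τ = 1 → ∃ a ∈ A, σ a = τ
  sq : ∃ a ∈ A, T 4 (σ a) ∧ a * a = z
  te : ∀ r ∈ centralizer (A : Set G), r ≠ 1 → r * r = 1 → ∀ n, Commute n r → Commute n z

variable {z t : G} {A A' : Subgroup G} {σ σ' : G → P8}

theorem mem_cent_comap (φ : G ≃* G) {r : G} :
    r ∈ centralizer (A.comap φ.toMonoidHom : Set G) ↔ φ r ∈ centralizer (A : Set G) :=
  ⟨fun h a ha => by simpa using congrArg φ (h (φ.symm a) (by simpa using ha)),
    fun h a ha => φ.injective (by simpa using h (φ a) ha)⟩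

namespace ST
variable (S : ST z A σ)
include S

theorem map (φ : G ≃* G) : ST (φ.symm z) (A.comap φ.toMonoidHom) (fun x => σ (φ x)) := by
  have k : ∀ x, Commute x (φ.symm z) ↔ Commute (φ x) z := fun x =>
    ⟨fun h => by simpa using h.map φ, fun h => by simpa using h.map φ.symm⟩
  refine ⟨by simpa using S.z1, by rw [← map_mul, S.z2, map_one], by simpa using S.zA, fun a ha => (k a).2 (S.cz _ ha),
    fun n hn a ha => by simpa using S.nm _ ((k n).1 hn) _ ha,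
    fun m n hm hn => by rw [map_mul, S.mul _ _ ((k m).1 hm) ((k n).1 hn)],
    fun n hn => (S.ker _ ((k n).1 hn)).trans (mem_cent_comap φ).symm,
    fun a ha e => (S.kA _ ha e).imp (by simp) fun e => by rw [← e]; simp, fun a ha => S.ev _ ha, fun τ h => ?_, ?_,
    fun r hr h1 h2 n hn => (k n).2 (S.te _ ((mem_cent_comap φ).1 hr) (by simpa using h1)
      (by rw [← map_mul, h2, map_one]) _ (hn.map φ))⟩
  · obtain ⟨a, ha, e⟩ := S.sur τ h
    exact ⟨φ.symm a, by simpa using ha, by simpa using e⟩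
  · obtain ⟨a, ha, e, e'⟩ := S.sq
    exact ⟨φ.symm a, by simpa using ha, by simpa using e, by rw [← map_mul, e']⟩

theorem one : σ 1 = 1 := (S.ker 1 (Commute.one_left z)).2 (one_mem _)
theorem σz : σ z = 1 := (S.ker z (Commute.refl z)).2 S.cz
theorem kz {k : G} (h : k ∈ centralizer (A : Set G)) : Commute k z := (h z S.zA).symm
theorem inv {n : G} (h : Commute n z) : σ n⁻¹ = (σ n)⁻¹ :=
  eq_inv_of_mul_eq_one_left (by rw [← S.mul _ _ h.inv_left h, inv_mul_cancel, S.one])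
theorem pow {n : G} (h : Commute n z) (k : ℕ) : σ (n ^ k) = σ n ^ k := by
  induction k with
  | zero => rw [pow_zero, pow_zero, S.one]
  | succ k ih => rw [pow_succ, pow_succ, S.mul _ _ (h.pow_left k) h, ih]
theorem cj {n a : G} (hn : Commute n z) (ha : Commute a z) : σ (n * a * n⁻¹) = σ n * σ a * (σ n)⁻¹ := by
  rw [S.mul _ _ (hn.mul_left ha) hn.inv_left, S.mul _ _ hn ha, S.inv hn]
theorem cm {n a : G} (hn : Commute n z) (ha : Commute a z) (h : Commute n a) : σ n * σ a = σ a * σ n := by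
  rw [← S.mul _ _ hn ha, ← S.mul _ _ ha hn, h.eq]
theorem sqσ {n : G} (hn : Commute n z) (h : n * n = 1) : σ n * σ n = 1 := by rw [← S.mul _ _ hn hn, h, S.one]
theorem mz {a : G} (h : Commute a z) : a * z * (a * z) = a * a := by
  rw [mul_assoc, ← mul_assoc z, ← h.eq, mul_assoc, S.z2, mul_one]
theorem eqz {a b : G} (ha : a ∈ A) (hb : b ∈ A) (e : σ a = σ b) : a = b ∨ a = b * z :=
  (S.kA _ (mul_mem (inv_mem hb) ha) (by
    rw [S.mul _ _ (S.cz _ hb).inv_left (S.cz _ ha), S.inv (S.cz _ hb), e, inv_mul_cancel])).imp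
    (fun e => (inv_mul_eq_one.1 e).symm) inv_mul_eq_iff_eq_mul.1

theorem dec {n : G} (hn : Commute n z) (h : sign (σ n) = 1) : ∃ a ∈ A, ∃ k ∈ centralizer (A : Set G), n = a * k := by
  obtain ⟨a, ha, e⟩ := S.sur _ h
  exact ⟨a, ha, a⁻¹ * n, (S.ker _ ((S.cz _ ha).inv_left.mul_left hn)).1 (by
    rw [S.mul _ _ (S.cz _ ha).inv_left hn, S.inv (S.cz _ ha), e, inv_mul_cancel]), by simp⟩

theorem l1 {ρ : P8} (h : ρ ^ 3 = 1) : ∃ a ∈ A, σ a = ρ ∧ ∀ n, Commute n z → σ n * ρ = ρ * σ n → Commute n a := by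
  have h4 : ρ ^ 4 = ρ := by rw [pow_succ, h, one_mul]
  obtain ⟨b, hb, rfl⟩ := S.sur ρ (by rw [← h4, show 4 = 2 + 2 from rfl, pow_add, map_mul, Int.units_mul_self])
  have h3 : (b ^ 4) ^ 3 = 1 := by
    rw [← pow_mul, show 4 * 3 = 3 * (2 * 2) from rfl, pow_mul, pow_mul]
    rcases S.kA _ (pow_mem hb 3) (by rw [S.pow (S.cz _ hb), h]) with e | e <;> simp [e, pow_two, S.z2]
  have e : σ (b ^ 4) = σ b := by rw [S.pow (S.cz _ hb), h4]
  refine ⟨_, pow_mem hb 4, e, fun n hn hc => ?_⟩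
  have ha := pow_mem hb 4
  generalize b ^ 4 = a at *
  rcases S.eqz (S.nm n hn a ha) ha (by rw [S.cj hn (S.cz _ ha), e, hc, mul_inv_cancel_right]) with k | k
  · exact mul_inv_eq_iff_eq_mul.1 k
  · have := congrArg (· ^ 3) k
    simp only [conj_pow, (S.cz _ ha).mul_pow, h3, pow_three z, S.z2] at this
    exact absurd this.symm (by simpa using S.z1)

theorem l2 {a : G} (ha : a ∈ A) (h : T 4 (σ a)) : a * a = z := by
  obtain ⟨b, hb, h1, h2⟩ := S.sq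
  obtain ⟨c, h3, e⟩ := h1.conj4 h
  obtain ⟨c, hc, rfl⟩ := S.sur c h3
  have k : c * b * c⁻¹ * (c * b * c⁻¹) = z := by rw [conj_mul, h2, (S.cz _ hc).eq, mul_inv_cancel_right]
  have m := S.nm c (S.cz _ hc) b hb
  rcases S.eqz ha m (by rw [S.cj (S.cz _ hc) (S.cz _ hb), e]) with rfl | rfl
  · exact k
  · rw [S.mz (S.cz _ m), k]

theorem l3 {ρ v : P8} (h : A4 ρ v) : ∃ i ∈ A, ∃ j ∈ A, σ i = v ∧ σ j = ρ * v * ρ⁻¹ ∧ i * i = z ∧ j * j = z ∧
    i * j * (i * j) = z ∧ ∀ n, Commute n z → σ n * ρ = ρ * σ n → σ n * v = v * σ n → Commute n i ∧ Commute n j := by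
  obtain ⟨a, ha, a1, a2⟩ := S.l1 h.1
  obtain ⟨b, hb, b1, b2⟩ := S.l1 h.2.1
  have hi := mul_mem hb (inv_mem ha)
  have e1 : σ (b * a⁻¹) = v := by rw [S.mul _ _ (S.cz _ hb) (S.cz _ ha).inv_left, S.inv (S.cz _ ha), a1, b1]; simp
  have hj := S.nm a (S.cz _ ha) _ hi
  have e2 : σ (a * (b * a⁻¹) * a⁻¹) = ρ * v * ρ⁻¹ := by rw [S.cj (S.cz _ ha) (S.cz _ hi), a1, e1]
  refine ⟨_, hi, _, hj, e1, e2, S.l2 hi (e1 ▸ h.2.2.1), S.l2 hj (e2 ▸ h.2.2.1.cj ρ), S.l2 (mul_mem hi hj)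
    (by rw [S.mul _ _ (S.cz _ hi) (S.cz _ hj), e1, e2]; exact h.2.2.2), fun n hn c1 c2 => ?_⟩
  have k1 := a2 n hn c1
  have k2 := (b2 n hn (Commute.mul_right c2 c1)).mul_right k1.inv_right
  exact ⟨k2, (k1.mul_right k2).mul_right k1.inv_right⟩

theorem qq {n : G} (hn : Commute n z) (h : σ n * σ n = 1) : ∃ i ∈ A, ∃ j ∈ A, i * i = z ∧ j * j = z ∧
    i * j * (i * j) = z ∧ Commute n i ∧ Commute n j := by
  obtain ⟨ρ, v, h1, h2, h3⟩ := C1 h
  obtain ⟨i, hi, j, hj, -, -, a1, a2, a3, a4⟩ := S.l3 h1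
  exact ⟨i, hi, j, hj, a1, a2, a3, a4 n hn h2 h3⟩

theorem e0 : ∃ e ∈ A, σ e = t0 ∧ e * e = 1 ∧ ∀ a ∈ A, T 8 (σ a) → ∃ b ∈ A, b * e * b⁻¹ = a := by
  obtain ⟨i, hi, j, hj, a1, a2, a3, a4, a5, -⟩ := S.l3 (ρ := swap 0 1 * swap 1 2) (v := v0) (by decide +kernel)
  obtain ⟨k, hk, l, -, b1, -, b3, -, -, b6⟩ := S.l3 (ρ := swap 4 5 * swap 5 6) (v := v1) (by decide +kernel)
  have c1 := (b6 i (S.cz _ hi) (by rw [a1]; decide) (by rw [a1]; decide)).1
  have c2 := (b6 j (S.cz _ hj) (by rw [a2]; decide) (by rw [a2]; decide)).1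
  have e1 : σ (i * k) = t0 := by rw [S.mul _ _ (S.cz _ hi) (S.cz _ hk), a1, b1, t0]
  have e2 : j * (i * k) * j⁻¹ = i * k * z := by
    have : j * i = i * z * j := by
      rw [← mul_right_inj i, ← mul_left_inj j, ← mul_assoc, ← mul_assoc, ← mul_assoc, a3, S.z2, one_mul, a4, ← a5]
      simp only [mul_assoc]
    rw [← mul_assoc, this, mul_assoc _ j k, c2.eq, ← mul_assoc, mul_inv_cancel_right, mul_assoc, ← (S.cz _ hk).eq,
      mul_assoc]
  have he := mul_mem hi hk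
  refine ⟨_, he, e1, by rw [← pow_two, c1.mul_pow, pow_two, pow_two, a3, b3, S.z2], fun a ha h => ?_⟩
  generalize i * k = e at *
  obtain ⟨c, h3, d⟩ := (show T 8 t0 by decide).conj_ev h (s := swap 0 1) (by simp) (by decide)
  obtain ⟨c, hc, rfl⟩ := S.sur c h3
  rcases S.eqz ha (S.nm c (S.cz _ hc) e he) (by rw [S.cj (S.cz _ hc) (S.cz _ he), e1, d]) with rfl | rfl
  · exact ⟨c, hc, rfl⟩
  · refine ⟨c * j, mul_mem hc hj, ?_⟩
    rw [show c * j * e * (c * j)⁻¹ = c * (j * e * j⁻¹) * c⁻¹ by group, e2, mul_assoc _ c⁻¹ z,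
      (S.cz _ hc).inv_left.eq]; group

theorem l4 {a : G} (ha : a ∈ A) (h : T 8 (σ a)) : a * a = 1 := by
  obtain ⟨e, -, -, h1, h2⟩ := S.e0
  obtain ⟨b, -, rfl⟩ := h2 a ha h
  rw [conj_mul, h1]; simp

theorem l5 {a a' : G} (ha : a ∈ A) (h : T 8 (σ a)) (ha' : a' ∈ A) (h' : T 8 (σ a')) : ∃ b ∈ A, b * a * b⁻¹ = a' := by
  obtain ⟨e, -, -, -, h2⟩ := S.e0
  obtain ⟨b, hb, rfl⟩ := h2 a ha h
  obtain ⟨c, hc, rfl⟩ := h2 a' ha' h'
  exact ⟨c * b⁻¹, mul_mem hc (inv_mem hb), by group⟩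

theorem l6 {a : G} (ha : a ∈ A) (h2 : a * a = 1) (h1 : a ≠ 1) (hz : a ≠ z) : T 8 (σ a) :=
  (even_cases (S.sqσ (S.cz _ ha) h2) (fun e => (S.kA a ha e).elim h1 hz) (S.ev a ha)).resolve_left fun h =>
    S.z1 ((S.l2 ha h).symm.trans h2)

section
variable (S' : ST t A' σ') (hc : Commute t z)
  (hK : ∀ r ∈ centralizer (A : Set G), r ∈ centralizer (A' : Set G) → r * r = 1 → r = 1)
include S' hc hK

theorem G1 : T 8 (σ t) := by
  obtain ⟨i, -, j, -, a1, a2, a3, a4, a5⟩ := S'.qq hc.symm (S'.sqσ hc.symm S.z2)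
  have k := a4.symm.mul_left a5.symm
  exact q8 (I := σ i) (J := σ j) (by rw [← S.mul _ _ a4.symm a4.symm, a1]) (by rw [← S.mul _ _ a5.symm a5.symm, a2])
    (by rw [← S.mul _ _ a4.symm a5.symm, ← S.mul _ _ k k, a3]) (S.sqσ hc S'.z2)
    fun e => S'.z1 (hK t ((S.ker t hc).1 e) S'.cz S'.z2)

theorem G2 {r : G} (h : r ∈ centralizer (A' : Set G)) (hz : Commute r z) (h2 : r * r = 1) : r = 1 ∨ r = t := by
  have c := S'.kz h
  have m : r * t ∈ centralizer (A' : Set G) := mul_mem h S'.cz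
  have m2 : r * t * (r * t) = 1 := by rw [S'.mz c, h2]
  have e1 : r * t = 1 → r = t := fun e => by rw [← mul_left_inj t, e, S'.z2]
  by_contra hn
  push Not at hn
  rcases C2 (S.G1 S' hc hK) (S.cm hz hc c) (S.sqσ hz h2) with e | e | ⟨ρ, a1, a2, a3⟩
  · exact hn.1 (hK r ((S.ker r hz).1 e) h h2)
  · exact hn.2 (e1 (hK _ ((S.ker _ (hz.mul_left hc)).1 (by rw [S.mul _ _ hz hc, e, S.sqσ hc S'.z2])) m m2))
  obtain ⟨a, ha, rfl, b⟩ := S.l1 a1
  refine a2 (S.cm (S.cz _ ha) hc (a3.elim (fun k => S'.te r h hn.1 h2 a (b r hz k).symm) fun k =>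
    S'.te _ m (fun e => hn.2 (e1 e)) m2 a (b _ (hz.mul_left hc) ?_).symm))
  rwa [S.mul _ _ hz hc]

theorem G3 : t ∈ A := by
  have h := S.G1 S' hc hK
  obtain ⟨a, ha, k, hk, rfl⟩ := S.dec hc h.sign8
  rw [S.mul _ _ (S.cz _ ha) (S.kz hk), (S.ker _ (S.kz hk)).2 hk, mul_one] at h
  have c : Commute a k := hk a ha
  have := S'.z2
  rw [← pow_two, c.mul_pow, pow_two, S.l4 ha h, one_mul, pow_two] at this
  rcases S'.G2 S hc.symm (fun r a b => hK r b a) hk (c.symm.mul_right (Commute.refl k)) this with rfl | rfl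
  exacts [mul_mem ha (one_mem _), mul_mem ha S.zA]

end

end ST

end Cfsg.Lib.McT.St
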