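import Mathlib

/-! Involutions of the symmetric group of degree 8. -/

set_option autoImplicit false
set_option maxRecDepth 100000

namespace Cfsg.Lib.McT.St

open Equiv Equiv.Perm

abbrev P8 := Perm (Fin 8)

/-- an element of order at most 2 moving `k` points -/
def T (k : ℕ) (τ : P8) : Prop := τ * τ = 1 ∧ τ.support.card = k

instance (k : ℕ) (τ : P8) : Decidable (T k τ) := by unfold T; infer_instance

variable {k : ℕ} {τ τ' : P8}

theorem ct (h : τ * τ = 1) : τ.cycleType = Multiset.replicate τ.cycleType.card 2 ∧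
    τ.support.card = τ.cycleType.card * 2 := by
  have h1 := cycleType_of_pow_prime_eq_one (p := 2) (σ := τ) (by rw [pow_two, h])
  exact ⟨h1, by rw [← sum_cycleType]; nth_rw 1 [h1]; simp⟩

theorem T.conj (h : T k τ) (h' : T k τ') : ∃ c, c * τ * c⁻¹ = τ' := by
  refine isConj_iff.1 (isConj_iff_cycleType_eq.2 ?_)
  have := (ct h.1).2.symm.trans ((h.2.trans h'.2.symm).trans (ct h'.1).2)
  rw [(ct h.1).1, (ct h'.1).1, show τ.cycleType.card = τ'.cycleType.card by omega]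

theorem T.cj (h : T k τ) (c : P8) : T k (c * τ * c⁻¹) :=
  ⟨by rw [conj_mul, h.1]; simp, by rw [card_support_conj, h.2]⟩

theorem T.conj_ev (h : T k τ) (h' : T k τ') {s : P8} (h1 : sign s = -1) (h2 : s * τ * s⁻¹ = τ) :
    ∃ c, sign c = 1 ∧ c * τ * c⁻¹ = τ' := by
  obtain ⟨c, e⟩ := h.conj h'
  rcases Int.units_eq_one_or (sign c) with a | a
  · exact ⟨c, a, e⟩
  · exact ⟨c * s, by rw [map_mul, a, h1]; rfl, by rw [← e]; nth_rw 2 [← h2]; group⟩

def v0 : P8 := swap 0 1 * swap 2 3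
def v1 : P8 := swap 4 5 * swap 6 7
def t0 : P8 := v0 * v1

theorem rep (h : τ * τ = 1) : ∃ c, ∃ r ∈ [1, swap 0 1, v0, v0 * swap 4 5, t0], c * r * c⁻¹ = τ := by
  have h1 := (ct h).2
  have h2 : τ.support.card ≤ 8 := card_finset_fin_le _
  have key : ∀ r k, T k r → τ.support.card = k → ∃ c, c * r * c⁻¹ = τ := fun r k a b => a.conj ⟨h, b⟩
  obtain a | a | a | a | a : τ.support.card = 0 ∨ τ.support.card = 2 ∨ τ.support.card = 4 ∨ τ.support.card = 6 ∨
    τ.support.card = 8 := by omega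
  · obtain ⟨c, e⟩ := key 1 0 (by decide) a; exact ⟨c, _, by simp, e⟩
  · obtain ⟨c, e⟩ := key (swap 0 1) 2 (by decide) a; exact ⟨c, _, by simp, e⟩
  · obtain ⟨c, e⟩ := key v0 4 (by decide) a; exact ⟨c, _, by simp, e⟩
  · obtain ⟨c, e⟩ := key (v0 * swap 4 5) 6 (by decide) a; exact ⟨c, _, by simp, e⟩
  · obtain ⟨c, e⟩ := key t0 8 (by decide) a; exact ⟨c, _, by simp, e⟩

theorem even_cases (h : τ * τ = 1) (h1 : τ ≠ 1) (h2 : sign τ = 1) : T 4 τ ∨ T 8 τ := by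
  obtain ⟨c, r, hr, rfl⟩ := rep h
  rw [map_mul, map_mul, mul_right_comm, ← map_mul, mul_inv_cancel, map_one, one_mul] at h2
  simp only [List.mem_cons, List.not_mem_nil, or_false] at hr
  rcases hr with rfl | rfl | rfl | rfl | rfl
  · simp at h1
  · simp at h2
  · exact .inl ((show T 4 v0 by decide).cj c)
  · simp [v0] at h2
  · exact .inr ((show T 8 t0 by decide).cj c)

/-- an alternating group of degree 4 with four-group consisting of double transpositions -/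
def A4 (ρ v : P8) : Prop := ρ ^ 3 = 1 ∧ (v * ρ) ^ 3 = 1 ∧ T 4 v ∧ T 4 (v * (ρ * v * ρ⁻¹))

instance (ρ v : P8) : Decidable (A4 ρ v) := by unfold A4; infer_instance

theorem C1 (h : τ * τ = 1) : ∃ ρ v, A4 ρ v ∧ τ * ρ = ρ * τ ∧ τ * v = v * τ := by
  obtain ⟨c, r, hr, rfl⟩ := rep h
  have k := (by decide +kernel : ∀ r ∈ [1, swap 0 1, v0, v0 * swap 4 5, t0],
    ∃ p ∈ [((swap 4 5 * swap 5 6 : P8), v1), (swap 0 2 * swap 2 4 * swap 1 3 * swap 3 5, v0)],
      A4 p.1 p.2 ∧ r * p.1 = p.1 * r ∧ r * p.2 = p.2 * r) r hr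
  obtain ⟨p, -, ⟨a1, a2, a3, a4⟩, a5, a6⟩ := k
  generalize p.1 = ρ at *
  generalize p.2 = v at *
  refine ⟨c * ρ * c⁻¹, c * v * c⁻¹, ⟨by rw [conj_pow, a1]; simp, by rw [conj_mul, conj_pow, a2]; simp, a3.cj c, ?_⟩,
    by rw [conj_mul, conj_mul, a5], by rw [conj_mul, conj_mul, a6]⟩
  rw [show c * v * c⁻¹ * (c * ρ * c⁻¹ * (c * v * c⁻¹) * (c * ρ * c⁻¹)⁻¹) = c * (v * (ρ * v * ρ⁻¹)) * c⁻¹ by group]
  exact a4.cj c

theorem q8 {I J : P8} (h1 : I * I = τ) (h2 : J * J = τ) (h3 : I * J * (I * J) = τ) (h : τ * τ = 1) (h' : τ ≠ 1) :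
    T 8 τ := by
  refine (even_cases h h' (by rw [← h1, map_mul, Int.units_mul_self])).resolve_left fun a => ?_
  obtain ⟨c, e⟩ := a.conj (show T 4 v0 by decide)
  have key : ∀ I : P8, I * I = τ → (c * I * c⁻¹) ((c * I * c⁻¹) 0) = 1 ∧ (c * I * c⁻¹) (v0 ((c * I * c⁻¹) 0)) = 0 ∧
      ((c * I * c⁻¹) 0 = 2 ∨ (c * I * c⁻¹) 0 = 3) := fun I hI => by
    have e1 : c * I * c⁻¹ * (c * I * c⁻¹) = v0 := by rw [conj_mul, hI, e]
    generalize c * I * c⁻¹ = I at e1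
    have b1 : ∀ x, I (I x) = v0 x := fun x => congrArg (fun g : P8 => g x) e1
    have b2 : ∀ x, I (v0 x) = v0 (I x) := fun x => by rw [← b1, ← b1]
    have b3 := b1 0
    have b4 := b2 0
    refine ⟨b3, by rw [b2, b1]; rfl, ?_⟩
    have b5 : I 0 ≠ I 1 := I.injective.ne (by decide)
    rw [show v0 0 = 1 from rfl] at b3 b4
    rw [b4] at b5
    have b6 : I 0 ≠ 0 := fun e => by rw [e, e] at b3; exact absurd b3 (by decide)
    have b7 : I 0 ≠ 1 := fun e => by rw [e] at b3 b4; exact absurd (b3.symm.trans b4) (by decide)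
    revert b5 b6 b7; generalize I 0 = x; revert x; decide
  obtain ⟨a1, a2, a3⟩ := key I h1
  obtain ⟨-, -, b3⟩ := key J h2
  obtain ⟨-, -, c3⟩ := key _ h3
  rw [← conj_mul, Perm.mul_apply] at c3
  generalize c * I * c⁻¹ = I at *
  generalize (c * J * c⁻¹) 0 = y at *
  have : y = I 0 ∨ y = v0 (I 0) := by rcases a3 with a | a <;> rcases b3 with rfl | rfl <;> rw [a] <;> decide
  rcases this with rfl | rfl
  · rw [a1] at c3; revert c3; decide
  · rw [a2] at c3; revert c3; decide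

def ap (n : ℕ) (x : Fin 8) : Fin 8 := Fin.ofNat 8 (n >>> (3 * x.1))
def tf (x : Fin 8) : Fin 8 := Fin.ofNat 8 (x.1 ^^^ 1)
def ff (a b c d x : Fin 8) : Fin 8 := if x.1 < 4 then (if x.1 < 2 then (if x.1 = 0 then a else tf a) else
  if x.1 = 2 then b else tf b) else if x.1 < 6 then (if x.1 = 4 then c else tf c) else if x.1 = 6 then d else tf d

theorem t0_eq : ⇑t0 = tf := funext (by decide)

theorem eq_ff {r : P8} (h : r * t0 = t0 * r) : ⇑r = ff (r 0) (r 2) (r 4) (r 6) := by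
  have e : ∀ x, r (t0 x) = tf (r x) := fun x => (congrArg (fun g : P8 => g x) h).trans (congrFun t0_eq _)
  funext x
  fin_cases x
  exacts [rfl, e 0, rfl, e 2, rfl, e 4, rfl, e 6]

/-- the permutation with the given table, given the table of its inverse -/
def pm (n m : ℕ) : P8 := if h : ∀ x, ap m (ap n x) = x ∧ ap n (ap m x) = x then
  ⟨ap n, ap m, fun x => (h x).1, fun x => (h x).2⟩ else 1

theorem pm_eq {n m : ℕ} (h : ∀ x, ap m (ap n x) = x ∧ ap n (ap m x) = x) : ⇑(pm n m) = ap n := by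
  rw [pm, dif_pos h]; rfl

def LR : List (ℕ × ℕ) := [(5635336, 9382856), (16266082, 16324637), (967666, 4639775), (1373876, 8849071), (12535432, 14141064), (16373896, 16398984), (11136776, 7580552), (16352042, 16296476), (8309896, 13553288), (12534480, 14140504), (14140112, 12534872), (15946448, 16147544), (10212048, 12219480), (8182944, 13508264), (13426336, 8264872)]

def LS : List ℕ := [11788826, 9925146, 6852524, 5017068]

theorem C2 (h : T 8 τ) {r : P8} (h1 : r * τ = τ * r) (h2 : r * r = 1) : r = 1 ∨ r = τ ∨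
    ∃ ρ : P8, ρ ^ 3 = 1 ∧ ρ * τ ≠ τ * ρ ∧ (r * ρ = ρ * r ∨ r * τ * ρ = ρ * (r * τ)) := by
  obtain ⟨c, rfl⟩ := (show T 8 t0 by decide).conj h
  obtain ⟨r, rfl⟩ : ∃ s, r = c * s * c⁻¹ := ⟨c⁻¹ * r * c, by group⟩
  rw [conj_mul, conj_mul, mul_left_inj, mul_right_inj] at h1
  rw [conj_mul, conj_eq_one_iff] at h2
  have := (by decide +kernel : ∀ a b c d, (∀ x, ff a b c d (ff a b c d x) = x) → (∀ x, ff a b c d x = x) ∨
    (∀ x, ff a b c d x = tf x) ∨ ∃ ρ ∈ LR, (∀ x, ff a b c d (ap ρ.1 x) = ap ρ.1 (ff a b c d x)) ∨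
      ∀ x, ff a b c d (tf (ap ρ.1 x)) = ap ρ.1 (ff a b c d (tf x))) (r 0) (r 2) (r 4) (r 6)
  rw [← eq_ff h1, ← t0_eq] at this
  rcases this fun x => congrArg (fun g : P8 => g x) h2 with a | a | ⟨ρ, hρ, a⟩
  · exact .inl (by rw [show r = 1 from Equiv.ext a]; simp)
  · exact .inr (.inl (by rw [show r = t0 from Equiv.ext a]))
  obtain ⟨b0, b1, b2⟩ := (by decide +kernel : ∀ ρ ∈ LR, (∀ x, ap ρ.2 (ap ρ.1 x) = x ∧ ap ρ.1 (ap ρ.2 x) = x) ∧
    (∀ x, ap ρ.1 (ap ρ.1 (ap ρ.1 x)) = x) ∧ ¬ ∀ x, ap ρ.1 (tf x) = tf (ap ρ.1 x)) ρ hρ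
  rw [← pm_eq b0] at a b1 b2
  rw [← t0_eq] at b2
  generalize pm ρ.1 ρ.2 = ρ at a b1 b2
  refine .inr (.inr ⟨c * ρ * c⁻¹, by rw [conj_pow, show ρ ^ 3 = 1 from Equiv.ext b1]; simp, ?_, ?_⟩) <;>
    simp only [conj_mul, Ne, mul_left_inj, mul_right_inj]
  · exact fun e => b2 fun x => congrArg (fun g : P8 => g x) e
  · exact a.imp Equiv.ext Equiv.ext

theorem C3 {r : P8} (h1 : r * t0 = t0 * r) (h2 : ∀ s, T 8 s → T 8 (s * t0) → r * s = s * r) : r = 1 ∨ r = t0 := by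
  have := (by decide +kernel : ∀ a b c d, (∀ s ∈ LS, ∀ x, ff a b c d (ap s x) = ap s (ff a b c d x)) →
    (∀ x, ff a b c d x = x) ∨ ∀ x, ff a b c d x = tf x) (r 0) (r 2) (r 4) (r 6)
  rw [← eq_ff h1, ← t0_eq] at this
  refine (this fun s hs x => ?_).imp Equiv.ext Equiv.ext
  obtain ⟨b0, b1, b2⟩ := (by decide +kernel : ∀ s ∈ LS, (∀ x, ap s (ap s x) = x ∧ ap s (ap s x) = x) ∧
    T 8 (pm s s) ∧ T 8 (pm s s * t0)) s hs
  rw [← pm_eq b0]
  exact congrArg (fun g : P8 => g x) (h2 _ b1 b2)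

theorem T.sign8 (h : T 8 τ) : sign τ = 1 := by
  obtain ⟨c, rfl⟩ := (show T 8 t0 by decide).conj h
  rw [map_mul, map_mul, mul_right_comm, ← map_mul, mul_inv_cancel, map_one, one_mul]
  simp [t0, v0, v1]

end Cfsg.Lib.McT.St
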