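import Cfsg.Agent.Lib.McT.Cov
import Cfsg.Agent.Lib.Comp.Subst

/-! Groups with an involution centraliser `2.A₈`. -/

set_option autoImplicit false
set_option maxRecDepth 100000
set_option linter.unusedSectionVars false

namespace Cfsg.Lib.McT

open Cfsg.Lib.FO Subgroup Cfsg.Lib.Amalg Cfsg.Lib.Golay Cfsg.Lib.U43 Cfsg.Lib.Psp43
open Cfsg.Lib.Comp (IvOK Rels ev cl gp mem_cl cl_le)
open Cfsg.Lib.Comp.McX (nets nets_iv nets_rel RH RX)

universe v

variable {G : Type v} [Group G] [Finite G] {z u e t f w s y p x m : G}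

set_option hygiene false in
local notation "𝐒" => gen [z, u, e, t, f, w, s]

theorem rels_of {γ δ : ℕ → G} {R R' : List (List ℕ × ℕ)} (σ : ℕ → ℕ) (h : Rels γ R) (n : ℕ)
    (k : ∀ r ∈ R', (r.1.map σ, r.2) ∈ R ∧ ∀ x ∈ r.1, x ≤ n) (e : ∀ x ≤ n, γ (σ x) = δ x) : Rels δ R' := fun r hr => by
  rw [← h _ (k r hr).1]
  congr 1
  simp only [ev, List.map_map]
  exact congrArg List.prod (List.map_congr_left fun x hx => (e x ((k r hr).2 x hx)).symm)

namespace MT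
variable (h : MT z u e t f w s y p x)
include h

theorem relH (m : G) : Rels (gX z u e t f w s y m p x) RH := fun r hr => by
  obtain ⟨K, k1, k2⟩ := h.emb
  obtain ⟨a, b⟩ := (by decide +kernel : ∀ r ∈ RH, r ∈ Comp.McX.R ∧ ∀ i ∈ r.1, i ∈ LH) r hr
  have hm := pow_mem (Comp.ev_mem (γ := fun i => (gX z u e t f w s y m p x i, gp nets i)) fun i hi => k1 m i (b i hi)) (r.2 + 1)
  rw [Comp.ev_prod, Prod.pow_mk, nets_rel r a] at hm
  exact k2 _ hm

theorem hc : Hc z u e t f w s y p :=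
  ⟨rels_of σp (h.relH 1) 11 (by decide +kernel) fun x hx => by interval_cases x <;> rfl, h.z1⟩

theorem fn : FN z u e t f w s x := fn_of (rels_of (fun x => if x < 8 then x else x + 6) (h.relH 1) 9 (by decide +kernel)
  fun x hx => by interval_cases x <;> rfl) h.z1

theorem cE {g : G} (h1 : g * z = z * g) (h2 : g * u = u * g) : g ∈ gen [e, f, x] :=
  h.fn.hN g (gen_le.2 (fun _ hx => (List.mem_cons.1 hx).elim (· ▸ h.fn.zN) mem_gen) (h.cV g h1 h2)) h2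

theorem cA (g : G) (h1 : g * z = z * g) (h2 : g * u = u * g) (h3 : g * e = e * g) (h4 : g * t = t * g) : g ∈ gen [z, u, e, t] :=
  ((h.fn.hE g (h.cE h1 h2)).2.2.2.1 h3).2 h4

theorem cB (g : G) (h1 : g * z = z * g) (h2 : g * u = u * g) (h3 : g * f = f * g) (h4 : g * w = w * g) : g ∈ gen [z, u, f, w] :=
  (h.fn.hE g (h.cE h1 h2)).2.2.2.2 h3 h4

theorem fuseS {i : G} (hi : i ∈ 𝐒) (i2 : i * i = 1) : i = 1 ∨ i = z ∨ ∃ a, a * z = z * a ∧ a * u * a⁻¹ = i := by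
  have F := h.hc.fh
  have N := h.fn
  have tr : ∀ {a b c}, c * z * c⁻¹ = z → (∃ g, g * z = z * g ∧ g * u * g⁻¹ = a) → c * a * c⁻¹ = b →
      ∃ g, g * z = z * g ∧ g * u * g⁻¹ = b := fun hc ⟨_, hg, e1⟩ e2 => ⟨_, cm_of_cj (cjc2 (cj_of_cm hg) hc), cjc2 e1 e2⟩
  have g : ∀ {x}, x ∈ [t, w, s, y, p] → x * z * x⁻¹ = z := fun hx => F.cz (mem_gen hx)
  have hD : ∀ d ∈ gen [y, p], d * z * d⁻¹ = z := fun d hd => F.cz (F.hD d hd).2.2.2.1
  have cu : ∃ g, g * z = z * g ∧ g * u * g⁻¹ = u := ⟨1, by simp, by simp⟩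
  have ctz := tr (b := t * z) N.xz (tr (cji (g (x := y) (by simp))) cu (cji (h.hc.eq (.cj (.c 8) (.c 3)) (.c 2) (by decide +kernel))))
    (by rw [← N.xe, mul_assoc _ z, F.z2, mul_one]; rfl)
  have ct := tr (cji (g (x := w) (by simp))) ctz (cji F.wt)
  have cw := tr N.xz (tr (g (x := p) (by simp)) cu (h.hc.eq (.cj (.c 10) (.c 2)) (.c 5) (by decide +kernel))) N.xf
  have h1 := F.hS _ hi
  refine or_iff_not_imp_left.2 fun n1 => or_iff_not_imp_left.2 fun nz => ?_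
  rcases ((F.hH _ h1).2.2.2.2 i2).2 with e1 | e1 | ⟨-, d, hd, e1 | e1⟩ | ⟨b, hb, e1⟩
  · exact (n1 e1).elim
  · exact (nz e1).elim
  · exact tr (hD d hd) cu e1.symm
  · exact tr (hD d hd) (tr (g (by simp)) cu F.sus) e1.symm
  have h2 := F.hH _ (mul_mem (mul_mem (inv_mem (F.QH hb)) h1) (F.QH hb))
  have bz := F.cz (F.QH hb)
  have e2 : b * (b⁻¹ * i * b) * b⁻¹ = i := by group
  have sq : b⁻¹ * i * b * (b⁻¹ * i * b) = 1 := by
    calc _ = b⁻¹ * (i * i) * b := by group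
      _ = 1 := by rw [i2]; simp
  refine tr bz ?_ e2
  rcases e1 with e1 | e1
  · rcases (h2.2.2.1 e1).2.2 sq with e3 | e3 | ⟨d, hd, e3 | e3⟩
    exacts [(n1 (by rw [← e2, e3]; simp)).elim, (nz (by rw [← e2, e3, bz])).elim, tr (hD d hd) ct e3.symm, tr (hD d hd) ctz e3.symm]
  · rcases (h2.2.2.2.2 sq).1 e1 with e3 | e3 | ⟨d, hd, e3 | e3⟩
    exacts [(n1 (by rw [← e2, e3]; simp)).elim, (nz (by rw [← e2, e3, bz])).elim, tr (hD d hd) cw e3.symm,
      tr (hD d hd) (tr (g (by simp)) cw F.tw) e3.symm]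

theorem sylC : Syl 2 𝐒 (centralizer {z}) := by
  have F := h.hc.fh
  have h1 : 𝐒 ≤ centralizer {z} := fun k hk => mem_centralizer_singleton_iff.2 (F.hH k (F.hS k hk)).1
  have h2 := relIndex_mul h1
  rw [F.cS, h.card] at h2
  exact syl_of_not_dvd h1 (IsPGroup.of_card (n := 7) F.cS) (by omega)

theorem fuse {K : Subgroup G} (hK : Syl 2 𝐒 K) {i : G} (hi : i ∈ K) (i2 : orderOf i = 2) :
    ∃ c ∈ K, c * i * c⁻¹ = z ∨ ∃ a, a * z = z * a ∧ a * u * a⁻¹ = c * i * c⁻¹ := by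
  obtain ⟨c, hc, hcS⟩ := hK.exists_conj_le (P := zpowers i)
    (IsPGroup.of_card (n := 1) (by rw [Nat.card_zpowers, i2, pow_one])) (zpowers_le.2 hi)
  exact ⟨c, hc, (h.fuseS (hcS (conj_mem_cj c (mem_zpowers i))) (by rw [conj_mul, ← pow_two, ← i2, pow_orderOf_eq_one]; simp)).resolve_left
    fun e => by rw [conj_eq_one_iff.1 e, orderOf_one] at i2; omega⟩

theorem fuseC {g : G} (h1 : g * z * g⁻¹ * z = z * (g * z * g⁻¹)) (h2 : g * z * g⁻¹ ≠ z) :
    ∃ a, a * z * a⁻¹ = z ∧ a * u * a⁻¹ = g * z * g⁻¹ := by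
  obtain ⟨c, hc, e1⟩ := h.fuse h.sylC (mem_centralizer_singleton_iff.2 h1)
    (by rw [Invol.orderOf_conj]; exact ord2 h.hc.fh.z2 h.z1)
  have cz := cji (cj_of_cm (mem_centralizer_singleton_iff.1 hc))
  rcases e1 with e1 | ⟨a, a1, a2⟩
  exacts [(h2 ((cji e1).symm.trans cz)).elim, ⟨c⁻¹ * a, cjc2 (cj_of_cm a1) cz, cjc2 a2 (cji rfl)⟩]

theorem exM {g : G} (h1 : g * z * g⁻¹ * z = z * (g * z * g⁻¹)) (h2 : g * z * g⁻¹ ≠ z) :
    ∃ m, Mr z u e t f w s m ∧ m * x * m⁻¹ = x := by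
  have F := h.hc.fh
  have N := h.fn
  obtain ⟨a, a1, a2⟩ := h.fuseC h1 h2
  have g1 : a⁻¹ * g * z * (a⁻¹ * g)⁻¹ = u := cjc2 rfl (cji a2)
  generalize a⁻¹ * g = g at g1
  obtain ⟨c, c1, c2⟩ := h.fuseC (g := g⁻¹) (by nth_rw 2 3 [← cji g1]; exact cm_cj _ F.zu)
    fun e1 => F.uz (by rw [← g1]; nth_rw 1 [← e1]; group)
  have sz := F.cz (mem_gen (x := s) (by simp))
  have n1 : MulAut.conj (g * c * s) z = u := cjc2 sz (cjc2 c1 g1)
  have n2 : MulAut.conj (g * c * s) u = u * z := cjc2 F.sus (by rw [U43.cjm, cjc2 c1 g1, cjc2 c2 (by group : _ = z), F.zu])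
  generalize g * c * s = n at n1 n2
  have nE : ∀ k ∈ [e, f, x], MulAut.conj n k ∈ gen [e, f, x] := fun k hk => by
    obtain ⟨k1, k2, -⟩ := N.hE k (mem_gen hk)
    refine h.cE ?_ (n1 ▸ cm_cj n k1)
    rw [← Pv.cj n1 n2 F (.inr (.inr (.inr ⟨rfl, rfl⟩)))]
    exact cm_cj n (Commute.mul_right k2 k1)
  have tr : ∀ {a b}, a = b → MulAut.conj n a = MulAut.conj n b := congrArg _
  obtain ⟨k, hk, q⟩ := N.fa _ (nE x (by simp)) (by simpa only [map_mul, map_one] using tr N.x3) _ (nE e (by simp))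
    (by simpa only [map_mul, map_one] using tr F.e2)
    (by simpa only [map_mul, map_inv, n1, n2] using tr (N.xe.symm ▸ N.xt : x * (x * e * x⁻¹ * z) * x⁻¹ = x * e * x⁻¹ * z * e * u))
    _ (nE f (by simp)) (by simpa only [map_mul, map_one] using tr F.f2) (by simpa only [map_mul, n1] using tr F.ef)
    (by simpa only [map_mul, map_inv] using tr (N.xf.symm ▸ N.xw : x * (x * f * x⁻¹) * x⁻¹ = x * f * x⁻¹ * f))
    (by simpa only [map_mul, map_inv, n2] using tr (N.xf.symm ▸ N.ew : e * (x * f * x⁻¹) * (e * (x * f * x⁻¹)) = u))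
  obtain ⟨k1, k2, -⟩ := N.hE k hk
  have mz : k * n * z * (k * n)⁻¹ = u := cjc2 n1 (cj_of_cm k2)
  have mu : k * n * u * (k * n)⁻¹ = u * z := cjc2 n2 (cj_of_cm (Commute.mul_right k2 k1))
  replace q : k * n * x * (k * n)⁻¹ = x⁻¹ ∨ k * n * x * (k * n)⁻¹ = x ∧ k * n * e * (k * n)⁻¹ = t ∧ k * n * f * (k * n)⁻¹ = w * f :=
    q.imp (cjc2 rfl) fun q => ⟨cjc2 rfl q.1, cjc2 rfl q.2.1, cjc2 rfl q.2.2⟩
  generalize k * n = m at mz mu q
  have e4 := Pv.cj mz mu F (.inr (.inr (.inr ⟨rfl, rfl⟩)))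
  have hE := N.hE _ (h.cE (cm_of_cj (cjc2 mz (cjc2 mu e4))) (cm_of_cj (cjc2 mu (cjc2 e4 mz))))
  rcases q with q | ⟨mx, me, mf⟩
  · exact (hE.2.2.1 (cjc2 q (cjc2 (by rw [← conj_inv, q, inv_inv]) q))).elim
  have mt : m * t * m⁻¹ = t * e := by
    calc _ = m * x * m⁻¹ * (m * e * m⁻¹) * (m * x * m⁻¹)⁻¹ * (m * z * m⁻¹) := by rw [← N.xe]; group
      _ = _ := by rw [mx, me, mz, N.xt, N.teuu]
  have mw : m * w * m⁻¹ = f := by
    calc _ = m * x * m⁻¹ * (m * f * m⁻¹) * (m * x * m⁻¹)⁻¹ := by rw [← N.xf]; group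
      _ = _ := by rw [mx, mf, U43.cjm, N.xw, N.xf, N.wfw]
  have sA : Act (io z u e t) s (lin 1 3 5 15) := h.hc.act (.c 7) (.c 3) (.c 4) 3 5 15 (by norm_num) F.eaA (by decide +kernel)
  have sB : Act (io z u f w) s (lin 1 3 4 12) := h.hc.act (.c 7) (.c 5) (.c 6) 3 4 12 (by norm_num) F.eaB (by decide +kernel)
  have mA := actA F mz mu me mt
  have mB := actB F mz mu mf mw
  have m3 : m ^ 3 = 1 := by
    obtain ⟨-, -, a3, a4⟩ := EA.triv (Act.comp (Act.comp mA mA) mA) (by decide +kernel)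
    obtain ⟨-, -, a5, a6⟩ := EA.triv (Act.comp (Act.comp mB mB) mB) (by decide +kernel)
    obtain ⟨v, -, e1, -⟩ := (F.hT _ (hE.2.2.2.1 a3).1).2.2.2 a3 a4 a5 a6
    rw [← e1.cj mz mu F, show m * (m * m * m) * m⁻¹ = m * m * m by group] at e1
    rw [pow_three']
    rcases e1 with e1 | e1 | e1 | e1
    exacts [e1.1, (F.uz (e1.2.symm.trans e1.1)).elim, (F.z1 (mul_eq_left.1 (e1.2.symm.trans e1.1))).elim,
      (F.z1 (conj_eq_one_iff.1 (mz.trans (mul_eq_right.1 (e1.1.symm.trans e1.2))))).elim]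
  obtain ⟨a1, a2, a3, a4⟩ := EA.triv (Act.comp (Act.comp (Act.comp sA mA) sA) mA) (by decide +kernel)
  obtain ⟨-, -, a5, a6⟩ := EA.triv (Act.comp (Act.comp (Act.comp sB mB) sB) mB) (by decide +kernel)
  obtain ⟨v, -, e1, e2⟩ := (F.hT _ ((N.hE _ (h.cE a1 a2)).2.2.2.1 a3).1).2.2.2 a3 a4 a5 a6
  rcases e2 (by rw [← e1.cj mz mu F, ← mul_assoc, ← mul_assoc, ← mul_assoc, F.s2]; group) with e3 | e3
  · exact ⟨m, ⟨m3, e3, mz, mu, me, mt, mf, mw⟩, mx⟩
  have k : ∀ {a b}, m * a * m⁻¹ = b → b ∈ gen [z, u, e, t, f, w] → z * m * a * (z * m)⁻¹ = b := fun e hb =>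
    cjc2 e (cj_of_cm (F.hH _ (F.TH hb)).1.symm)
  have g : ∀ {x}, x ∈ [z, u, e, t, f, w] → x ∈ gen [z, u, e, t, f, w] := mem_gen
  refine ⟨z * m, ⟨?_, ?_, k mz (g (by simp)), k mu (mul_mem (g (by simp)) (g (by simp))), k me (g (by simp)),
    k mt (mul_mem (g (by simp)) (g (by simp))), k mf (mul_mem (g (by simp)) (g (by simp))), k mw (g (by simp))⟩,
    cjc2 mx (cj_of_cm (cm_of_cj N.xz).symm)⟩
  · calc _ = z * (m * z * m⁻¹) * (m * (m * z * m⁻¹) * m⁻¹) * m ^ 3 := by simp only [pow_three]; group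
      _ = 1 := by rw [mz, mu, m3, mul_one, mul_assoc, ← mul_assoc u, F.u2, one_mul, F.z2]
  · calc _ = s * z * s⁻¹ * (s * m * s * m) * (m⁻¹ * z * m⁻¹⁻¹) := by group
      _ = 1 := by rw [cji e4, e3, sz, mul_assoc, ← mul_assoc u, F.u2, one_mul, F.z2]

theorem nS {n : G} (hn : n ∈ 𝐍 𝐒) : n * z * n⁻¹ = z := by
  have F := h.hc.fh
  have k : ∀ x ∈ [z, u, e, t, f, w, s], n * z * n⁻¹ * x = x * (n * z * n⁻¹) := fun x hx =>
    cm_of_norm hn (fun x hx => (F.hH x (F.hS x hx)).1) (mem_gen hx)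
  exact ((((F.hH _ (F.TH ((h.fn.hE _ (h.cE (k z (by simp)) (k u (by simp)))).2.2.2.1 (k e (by simp))).1)).2.1 (k u (by simp))).2.1
    (k e (by simp))).2 (k f (by simp)) (k s (by simp))).resolve_left fun e => F.z1 (conj_eq_one_iff.1 e)

variable (k : Mr z u e t f w s m) (mx : m * x * m⁻¹ = x)
include k mx

theorem relsM : Rels (gX z u e t f w s y m p x) Comp.McX.RM := by
  have F := h.hc.fh
  have mA := actA F k.mz k.mu k.me k.mt
  have mB := actB F k.mz k.mu k.mf k.mw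
  have yA : Act (io z u e t) y (lin 1 6 2 8) := h.hc.act (.c 8) (.c 3) (.c 4) 6 2 8 (by norm_num) F.eaA (by decide +kernel)
  have YA : Act (io z u e t) y⁻¹ (lin 1 4 6 8) := h.hc.act (.c 9) (.c 3) (.c 4) 4 6 8 (by norm_num) F.eaA (by decide +kernel)
  have PB : Act (io z u f w) p⁻¹ (lin 1 7 2 8) := h.hc.act (.c 11) (.c 5) (.c 6) 7 2 8 (by norm_num) F.eaB (by decide +kernel)
  have pB : Act (io z u f w) p (lin 1 4 7 8) := h.hc.act (.c 10) (.c 5) (.c 6) 4 7 8 (by norm_num) F.eaB (by decide +kernel)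
  have q : ∀ {a b : G}, a * a = 1 → b * b = 1 → a * b * (b * (a * 1)) = 1 := fun ha hb => by
    rw [mul_assoc, ← mul_assoc _ _ (_ * 1), hb, one_mul, mul_one, ha]
  have q1 : ∀ {a : G}, a * a = 1 → a * (a * 1) = 1 := fun ha => by rwa [mul_one]
  refine .cons (show (m * 1) ^ 3 = 1 by rw [mul_one, k.m3]) (.cons (show (s * (m * 1)) ^ 2 = 1 by
    rw [mul_one, pow_two, ← mul_assoc, k.sm]) (.cons (rl k.mz (q1 F.u2))
    (.cons (rl k.mu (q F.u2 F.z2)) (.cons (rl k.me (q1 F.t2)) (.cons (rl k.mt (q F.t2 F.e2))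
    (.cons (rl k.mf (q F.w2 F.f2)) (.cons (rl k.mw (q1 F.f2))
    (.cons (rl (cj_of_cm (cm_of_cj mx).symm) (show m * (m⁻¹ * 1) = 1 by simp))
    (.cons (pow_inv' (F.eaA.pow5 h.cA (Act.comp mA YA) (by decide +kernel) (by decide +kernel)))
    (.cons (show (y * (m * 1)) ^ 8 = 1 from (mul_one m).symm ▸ F.eaA.pow8 h.cA (Act.comp yA mA) (by decide +kernel))
    (.cons (pow_inv' (F.eaB.pow8 h.cB (Act.comp mB PB) (by decide +kernel)))
    (.cons (show (p * (m * 1)) ^ 5 = 1 from (mul_one m).symm ▸ F.eaB.pow5 h.cB (Act.comp pB mB) (by decide +kernel) (by decide +kernel))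
    (.cons (show (m * (m⁻¹ * 1)) ^ 1 = 1 by simp) fun _ h => nomatch h)))))))))))))

theorem iso : Nonempty (G ≃* Spor.McL) := by
  have F := h.hc.fh
  have hi : IvOK (gX z u e t f w s y m p x) Comp.McX.iv := ivok
    (by decide +kernel : ∀ x < 64, Comp.McX.iv x < 64 ∧ (15 < x → 15 < Comp.McX.iv x)) fun k hk => by
    simp only [List.length_cons, List.length_nil] at hk
    have q := fun k => sq_of (h.relH m) (k := k)
    interval_cases k
    exacts [inv_one.symm, q 1 (by decide +kernel), q 2 (by decide +kernel), q 3 (by decide +kernel), q 4 (by decide +kernel),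
      q 5 (by decide +kernel), q 6 (by decide +kernel), q 7 (by decide +kernel), rfl, (inv_inv _).symm, rfl, (inv_inv _).symm,
      rfl, (inv_inv _).symm, rfl, (inv_inv _).symm]
  have hX := Comp.McX.consX _ _ hi ((h.relH m).append (h.relsM k mx))
  obtain ⟨K, k1, k2⟩ := h.emb
  have lg := Comp.McX.lg _ _ K (hi.prod nets_iv) (hX.prod (nets_rel.mono (by decide +kernel))) (fun w hw => by
    obtain ⟨i, hi, rfl⟩ := List.mem_map.1 hw
    rw [Comp.ev_single]; exact k1 m i hi) _ (.head _)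
  rw [Comp.ev_prod, ← pow_one (ev (gp nets) _), nets_rel (_, 0) (by decide +kernel)] at lg
  obtain ⟨a, -⟩ := Comp.embed_of_rels Comp.McX.simple nets_iv nets_rel Comp.McX.ord Comp.McX.card.ge hi
    ((Rels.cons (e := 0) ((pow_one _).trans (k2 _ lg)) hX).mono (by decide +kernel)) (x := 1) (by decide) h.z1
  have sS : Syl 2 𝐒 ⊤ := h.sylC.of_normalizer_le le_top fun n hn => mem_centralizer_singleton_iff.2 (cm_of_cj (h.nS hn.2))
  have hC : ∀ g, g * z = z * g → g ∈ cl (gX z u e t f w s y m p x) Comp.McX.L := fun g hg =>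
    Comp.cl_mono (by decide) (h.hg m g hg)
  have top := top_of (core_bot F.z2 k.mz k.mu h.odd) sS (mem_gen (by simp)) (ord2 F.z2 F.z1) (fun _ => h.nS) hC fun i hi i2 => by
    obtain ⟨c, hc, e1 | ⟨b, b1, b2⟩⟩ := h.fuse (sS.of_le (fun g hg => hC g (F.hH g (F.hS g hg)).1) le_top) hi i2
    exacts [⟨c⁻¹, inv_mem hc, cji e1⟩, ⟨c⁻¹ * (b * m), mul_mem (inv_mem hc) (mul_mem (hC b b1) (mem_cl (x := 10) (by decide))),
      cjc2 (cjc2 k.mz b2) (cji rfl)⟩]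
  obtain ⟨b⟩ := Comp.McX.perm
  exact ⟨(topEquiv.symm.trans (MulEquiv.subgroupCongr top.symm)).trans (a.symm.trans b.symm)⟩

end MT

end Cfsg.Lib.McT
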